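import Groth.Agent.IntTh.Positive
import Groth.Agent.S2928
import Groth.Agent.InvPow.Projective
import Groth.Prelude.Def_Pic13

/-!
# Twists of projective schemes
-/

universe u

open CategoryTheory CategoryTheory.Limits AlgebraicGeometry Opposite TopologicalSpace

set_option autoImplicit false
set_option backward.isDefEq.respectTransparency false
set_option linter.style.haveILetI false

namespace Groth.Agent.PicTwist

open InvBasic ProjUniv Groth.Agent.InvPow Groth.Agent.QCohLib Groth.Agent.HilbPoly Groth.Agent.CurveDeg Groth.Agent.CohFinite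

variable {n : ℕ} {k : Type u} [Field k] {X : Scheme.{u}} (i : X ⟶ CohB1.ProjSpace n k)

/-- `O_X(d)`. -/
noncomputable abbrev tw (d : ℤ) : X.Modules := (Scheme.Modules.pullback i).obj (Twist.twistProjSpace n k d)

theorem isAmple_twistProjSpace_one : CohB1.IsAmple (Twist.twistProjSpace n k 1) := by
  haveI := Groth.Agent.InvPow.isProper_toSpec n k
  haveI : CompactSpace (Proj (CohB1.polyGrading n k)) :=
    QuasiCompact.compactSpace_of_compactSpace (CohB1.ProjSpace.toSpec n k)
  have := Groth.Agent.ProjTwist.isAmple_twist (CohB1.polyGrading n k) one_pos fun y => by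
    obtain ⟨j, hj⟩ := TopologicalSpace.Opens.mem_iSup.mp
      ((Groth.Agent.ProjPoint.iSup_basicOpen_X (R := k) (n := n)).ge (TopologicalSpace.Opens.mem_top y))
    exact ⟨MvPolynomial.X j, Groth.Agent.ProjPoint.X_mem j, hj⟩
  exact this

theorem isAmple_tw [IsClosedImmersion i] : CohB1.IsAmple (tw i 1) :=
  AmpleDescent.isAmple_pullback_affine isAmple_twistProjSpace_one i

theorem nonempty_tw_add (a b : ℤ) (hb : PicF.IsInvertible (Twist.twistProjSpace n k b)) :
    Nonempty (CohB1.tensorMod (tw i a) (tw i b) ≅ tw i (a + b)) := by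
  obtain ⟨e⟩ := Groth.Agent.ProjTwist.nonempty_tensor_twist_iso (CohB1.polyGrading n k)
    (n := a) (m := b) (r := a + b) rfl (Groth.Agent.ProjCoh.hasUnit_polyGrading b)
  obtain ⟨t⟩ := nonempty_pullback_tensor_iso i
    (Groth.Agent.ProjTwist.isInvertible_twist (Groth.Agent.ProjCoh.hasUnit_polyGrading a)) hb
  exact ⟨t.symm ≪≫ (Scheme.Modules.pullback i).mapIso e⟩

theorem isInverseOf_tw : ClSub.IsInverseOf (tw i 1) (tw i (-1)) := by
  obtain ⟨e⟩ := nonempty_tw_add i 1 (-1)
    (Groth.Agent.ProjTwist.isInvertible_twist (Groth.Agent.ProjCoh.hasUnit_polyGrading _))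
  obtain ⟨z⟩ := Groth.Agent.ProjTwist.nonempty_structureModule_iso_twist_zero (CohB1.polyGrading n k)
  exact ⟨e ≪≫ (Scheme.Modules.pullback i).mapIso ((eqToIso (by norm_num; rfl)) ≪≫ z.symm) ≪≫ QCohLib.pullbackUnitIso i⟩

theorem nonempty_twistOn_iso (F : X.Modules) (m : ℕ) :
    Nonempty (Pic13.twistOn k i F (m : ℤ) ≅ CohB1.tensorMod F (CohB1.tensorPow (tw i 1) m)) := by
  obtain ⟨e⟩ := Groth.Agent.ProjTwist.nonempty_twist_iso_tensorPow (CohB1.polyGrading n k)
    (Groth.Agent.ProjCoh.hasUnit_polyGrading 1) m (m : ℤ) (by simp)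
  obtain ⟨p⟩ := nonempty_pullback_pow_iso i
    (Groth.Agent.ProjTwist.isInvertible_twist (Groth.Agent.ProjCoh.hasUnit_polyGrading (R := k) (n := n) 1)) m
  exact ⟨(ProjTwist.nonempty_tensorMod_iso (Iso.refl F) ((Scheme.Modules.pullback i).mapIso e ≪≫ p)).some⟩

end Groth.Agent.PicTwist
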