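import Mathlib

/-! # Uniqueness of binomial expansions -/

namespace Groth.Agent.PicTwist

/-- Coefficients in the basis `m.choose q` are determined by the values. -/
theorem eq_of_binom_sum_eq (r : ℕ) (u v : ℕ → ℤ)
    (h : ∀ m : ℕ, ∑ q ∈ Finset.range (r + 1), (m.choose q : ℤ) * u q =
      ∑ q ∈ Finset.range (r + 1), (m.choose q : ℤ) * v q) : ∀ q, q ≤ r → u q = v q := by
  intro q
  induction q using Nat.strong_induction_on with
  | _ q ih =>
    intro hq
    have hq' := h q
    rw [← Finset.sum_erase_add _ _ (Finset.mem_range.mpr (Nat.lt_succ_of_le hq)),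
      ← Finset.sum_erase_add _ _ (Finset.mem_range.mpr (Nat.lt_succ_of_le hq))] at hq'
    have e : ∑ x ∈ (Finset.range (r + 1)).erase q, (q.choose x : ℤ) * u x =
        ∑ x ∈ (Finset.range (r + 1)).erase q, (q.choose x : ℤ) * v x := by
      refine Finset.sum_congr rfl fun x hx => ?_
      rcases lt_or_ge q x with hlt | hge
      · rw [Nat.choose_eq_zero_of_lt hlt]; simp
      · have hne := (Finset.mem_erase.mp hx).1
        rw [ih x (lt_of_le_of_ne hge hne) (le_trans hge hq)]
    rw [e, Nat.choose_self] at hq'
    simpa using hq'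

end Groth.Agent.PicTwist
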